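import Groth.Prelude.Def_EGA4c
import Groth.Agent.S11650
import Groth.Agent.Lib.Depth.Semicont
import Groth.Agent.Lib.GrLC.LocalDim
import Groth.Agent.Lib.SyntLoc.Sk
import Groth.Agent.Lib.Faltings.Transfer
import Mathlib.RingTheory.KrullDimension.Regular
import Mathlib.RingTheory.Ideal.KrullsHeightTheorem

/-!
# Serre's conditions and regular elements
-/

universe u

open IsLocalRing TensorProduct

namespace GrothLib.SkLift5

/-- Cancellation of one in dimensions. -/
theorem le_of_add_one_le {a b : WithBot ℕ∞} (h : a + 1 ≤ b + 1) : a ≤ b := by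
  induction a using WithBot.recBotCoe with
  | bot => exact bot_le
  | coe a =>
    induction b using WithBot.recBotCoe with
    | bot => rw [WithBot.bot_add, le_bot_iff] at h; exact absurd h WithBot.coe_ne_bot
    | coe b =>
      rw [show (1 : WithBot ℕ∞) = ((1 : ℕ∞) : WithBot ℕ∞) from rfl, ← WithBot.coe_add, ← WithBot.coe_add,
        WithBot.coe_le_coe] at h
      exact WithBot.coe_le_coe.2 ((WithTop.add_le_add_iff_right WithTop.one_ne_top).1 h)

section Height

variable {A : Type u} [CommRing A] [IsNoetherianRing A]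

/-- Krull's theorem in `A ⧸ p`. -/
theorem height_map_le_one {p q : Ideal A} [p.IsPrime] [q.IsPrime] {t : A}
    (hq : q ∈ (p ⊔ Ideal.span {t}).minimalPrimes) : (q.map (Ideal.Quotient.mk p)).height ≤ 1 := by
  have hpq : p ≤ q := le_sup_left.trans hq.1.2
  haveI : (Ideal.span {Ideal.Quotient.mk p t}).IsPrincipal := ⟨⟨_, rfl⟩⟩
  refine Ideal.height_le_one_of_isPrincipal_of_mem_minimalPrimes (Ideal.span {Ideal.Quotient.mk p t}) _ ?_
  refine ⟨⟨Ideal.isPrime_map_quotientMk_of_isPrime hpq, (Ideal.span_singleton_le_iff_mem _).2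
    (Ideal.mem_map_of_mem _ (hq.1.2 (Ideal.mem_sup_right (Ideal.mem_span_singleton_self t))))⟩, fun Z hZ hZP => ?_⟩
  haveI := hZ.1
  refine Ideal.map_le_iff_le_comap.2 (hq.2 ⟨Ideal.IsPrime.comap _, sup_le (fun r hr => ?_)
    ((Ideal.span_singleton_le_iff_mem _).2 (hZ.2 (Ideal.mem_span_singleton_self _)))⟩ ?_)
  · rw [Ideal.mem_comap, Ideal.Quotient.eq_zero_iff_mem.2 hr]
    exact zero_mem _
  · refine (Ideal.comap_mono hZP).trans ?_
    rw [Ideal.comap_map_of_surjective' _ Ideal.Quotient.mk_surjective, Ideal.mk_ker, sup_eq_left.2 hpq]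

end Height

section Module

variable {A : Type u} [CommRing A] [IsNoetherianRing A] {M : Type u} [AddCommGroup M] [Module A M]
  [Module.Finite A M]

omit [IsNoetherianRing A] [Module.Finite A M] in
theorem isSMulRegular_localized {t : A} (hreg : IsSMulRegular M t) (q : Ideal A) [q.IsPrime] :
    IsSMulRegular (LocalizedModule q.primeCompl M) (algebraMap A (Localization.AtPrime q) t) := by
  refine GrothLib.Depth.isSMulRegular_localizedModule q
    (fun h => (inferInstance : q.IsPrime).ne_top ((Ideal.eq_top_iff_one q).2 h)) fun m hm => ?_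
  rw [one_smul]
  exact hreg (hm.trans (smul_zero t).symm)

/-- Depth drops by one. -/
theorem depth_quotSMulTop_add_one {t : A} (hreg : IsSMulRegular M t) (q : Ideal A) [q.IsPrime] (ht : t ∈ q) :
    LocCoh.depth (Localization.AtPrime q) (LocalizedModule q.primeCompl (QuotSMulTop t M)) + 1 =
      LocCoh.depth (Localization.AtPrime q) (LocalizedModule q.primeCompl M) :=
  GrothLib.Depth.idealDepth_localization_quotSMulTop q M _
    (by rw [← Localization.AtPrime.map_eq_maximalIdeal]; exact Ideal.mem_map_of_mem _ ht)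
    (isSMulRegular_localized hreg q)

/-- Dimension drops by at most one. -/
theorem supportDim_le_quotSMulTop_add_one (t : A) (q : Ideal A) [q.IsPrime] (ht : t ∈ q) :
    Module.supportDim (Localization.AtPrime q) (LocalizedModule q.primeCompl M) ≤
      Module.supportDim (Localization.AtPrime q) (LocalizedModule q.primeCompl (QuotSMulTop t M)) + 1 := by
  haveI := GrothLib.Depth.isNoetherian_atPrime q
  rw [Module.supportDim_eq_of_equiv ((LocalizedModule.equivTensorProduct q.primeCompl (QuotSMulTop t M)).trans
    (QuotSMulTop.algebraMapTensorEquivTensorQuotSMulTop t M (Localization.AtPrime q)).symm),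
    Module.supportDim_eq_of_equiv (LocalizedModule.equivTensorProduct q.primeCompl M)]
  exact Module.supportDim_le_supportDim_quotSMulTop_succ
    (by rw [← Localization.AtPrime.map_eq_maximalIdeal]; exact Ideal.mem_map_of_mem _ ht)

omit [IsNoetherianRing A] [Module.Finite A M] in
theorem supportDim_localized_eq_height (p : Ideal A) [p.IsPrime]
    (hp : (⟨p, inferInstance⟩ : PrimeSpectrum A) ∈ Module.support A M) :
    Module.supportDim (Localization.AtPrime p) (LocalizedModule p.primeCompl M) =
      (Order.height (⟨⟨p, inferInstance⟩, hp⟩ : Module.support A M) : WithBot ℕ∞) := by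
  let x : Module.support A M := ⟨⟨p, inferInstance⟩, hp⟩
  let e : {q : PrimeSpectrum A // q ∈ Module.support A M ∧ q.asIdeal ≤ p} ≃o Set.Iic x :=
    { toFun := fun q => ⟨⟨q.1, q.2.1⟩, q.2.2⟩
      invFun := fun q => ⟨q.1.1, q.1.2, q.2⟩
      left_inv := fun _ => rfl
      right_inv := fun _ => rfl
      map_rel_iff' := Iff.rfl }
  rw [GrLC.supportDim_localized, Order.krullDim_eq_of_orderIso e, ← Order.height_eq_krullDim_Iic]

omit [IsNoetherianRing A] [Module.Finite A M] in
theorem supportDim_localized_strict {p q : Ideal A} [p.IsPrime] [q.IsPrime] (hpq : p < q)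
    (hp : (⟨p, inferInstance⟩ : PrimeSpectrum A) ∈ Module.support A M) :
    Module.supportDim (Localization.AtPrime p) (LocalizedModule p.primeCompl M) + 1 ≤
      Module.supportDim (Localization.AtPrime q) (LocalizedModule q.primeCompl M) := by
  have hq : (⟨q, inferInstance⟩ : PrimeSpectrum A) ∈ Module.support A M :=
    Module.mem_support_mono (p := (⟨p, inferInstance⟩ : PrimeSpectrum A))
      (show p ≤ q from hpq.le) hp
  rw [supportDim_localized_eq_height p hp, supportDim_localized_eq_height q hq]
  have h : Order.height (⟨⟨p, inferInstance⟩, hp⟩ : Module.support A M) + 1 ≤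
      Order.height (⟨⟨q, inferInstance⟩, hq⟩ : Module.support A M) :=
    Order.height_add_one_le (show (⟨p, inferInstance⟩ : PrimeSpectrum A) < ⟨q, inferInstance⟩ from hpq)
  exact_mod_cast h

omit [IsNoetherianRing A] [Module.Finite A M] in
theorem supportDim_localized_of_notMem (p : Ideal A) [p.IsPrime]
    (hp : (⟨p, inferInstance⟩ : PrimeSpectrum A) ∉ Module.support A M) :
    Module.supportDim (Localization.AtPrime p) (LocalizedModule p.primeCompl M) = ⊥ :=
  (Module.supportDim_eq_bot_iff_subsingleton _ _).2 (Module.notMem_support_iff.1 hp)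

variable [IsLocalRing A]

/-- A prime one step above a prime avoiding `t`. -/
theorem exists_step {t : A} (hreg : IsSMulRegular M t) (htm : t ∈ maximalIdeal A) (p : Ideal A) [p.IsPrime]
    (htp : t ∉ p) : ∃ (q : Ideal A) (_ : q.IsPrime), p < q ∧ t ∈ q ∧ q ∈ (p ⊔ Ideal.span {t}).minimalPrimes ∧
      LocCoh.depth (Localization.AtPrime q) (LocalizedModule q.primeCompl (QuotSMulTop t M)) ≤
        LocCoh.depth (Localization.AtPrime p) (LocalizedModule p.primeCompl M) := by
  obtain ⟨q, hq, -⟩ := Ideal.exists_minimalPrimes_le (I := p ⊔ Ideal.span {t}) (J := maximalIdeal A)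
    (sup_le (le_maximalIdeal (Ideal.IsPrime.ne_top inferInstance)) ((Ideal.span_singleton_le_iff_mem _).2 htm))
  haveI := hq.1.1
  have htq : t ∈ q := hq.1.2 (Ideal.mem_sup_right (Ideal.mem_span_singleton_self t))
  refine ⟨q, hq.1.1, lt_of_le_of_ne (le_sup_left.trans hq.1.2) (fun h => htp (h ▸ htq)), htq, hq, ?_⟩
  have h1 : LocCoh.depth (Localization.AtPrime q) (LocalizedModule q.primeCompl (QuotSMulTop t M)) + 1 ≤
      LocCoh.depth (Localization.AtPrime p) (LocalizedModule p.primeCompl M) + 1 := by
    rw [depth_quotSMulTop_add_one hreg q htq]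
    exact (Groth.Agent.S11650.result A M p q (le_sup_left.trans hq.1.2)).trans
      (add_le_add le_rfl (height_map_le_one hq))
  exact (WithTop.add_le_add_iff_right WithTop.one_ne_top).1 h1

/-- `(S_k)` lifts along a regular element of the maximal ideal. -/
theorem hasSk_of_quotSMulTop {k : ℕ} {t : A} (htm : t ∈ maximalIdeal A) (hreg : IsSMulRegular M t)
    (hS : LocCoh.HasSk k A (QuotSMulTop t M)) : LocCoh.HasSk k A M := by
  intro p _
  by_cases htp : t ∈ p
  · rw [← depth_quotSMulTop_add_one hreg p htp]
    refine le_trans ?_ (le_of_le_of_eq (add_le_add_left (hS p) 1) ?_)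
    · rw [← min_add_add_right]
      exact min_le_min le_self_add_one (supportDim_le_quotSMulTop_add_one t p htp)
    · norm_cast
  · by_cases hp : (⟨p, inferInstance⟩ : PrimeSpectrum A) ∈ Module.support A M
    · obtain ⟨q, _, hpq, htq, -, hd⟩ := exists_step hreg htm p htp
      refine le_trans (le_min (min_le_left _ _) (min_le_of_right_le (le_of_add_one_le ?_))) ((hS q).trans (WithBot.coe_le_coe.2 hd))
      exact (supportDim_localized_strict hpq hp).trans (supportDim_le_quotSMulTop_add_one t q htq)
    · rw [supportDim_localized_of_notMem p hp]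
      exact (min_le_right _ _).trans bot_le
where
  le_self_add_one {a : WithBot ℕ∞} : a ≤ a + 1 := by
    induction a using WithBot.recBotCoe with
    | bot => exact bot_le
    | coe a => exact_mod_cast le_self_add

/-- Equidimensionality lifts along a regular element. -/
theorem isEquidimModule_of_quotSMulTop {k : ℕ} (hk : 1 ≤ k) {t : A} (htm : t ∈ maximalIdeal A)
    (hreg : IsSMulRegular M t) (heq : EGA4.IsEquidimModule A (QuotSMulTop t M))
    (hS : LocCoh.HasSk k A (QuotSMulTop t M)) : EGA4.IsEquidimModule A M := by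
  intro p hp
  haveI := hp.1.1
  have hdim := Module.supportDim_quotSMulTop_succ_eq_supportDim hreg htm
  refine le_antisymm ?_ ?_
  · rw [Module.supportDim_eq_ringKrullDim_quotient_annihilator]
    exact ringKrullDim_le_of_surjective (Ideal.Quotient.factor hp.1.2) (Ideal.Quotient.factor_surjective hp.1.2)
  have htp : t ∉ p := hreg.notMem_of_mem_minimalPrimes hp
  have hpsupp : (⟨p, hp.1.1⟩ : PrimeSpectrum A) ∈ Module.support A M := Module.mem_support_iff_of_finite.2 hp.1.2
  obtain ⟨q, _, hpq, htq, -, hd⟩ := exists_step hreg htm p htp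
  have hp0 : Module.supportDim (Localization.AtPrime p) (LocalizedModule p.primeCompl M) ≤ 0 := by
    rw [supportDim_localized_eq_height p hpsupp]
    refine le_of_eq ?_
    rw [Order.height_eq_zero.2 fun x hx => ?_]
    · rfl
    · exact (hp.2 ⟨x.1.isPrime, Module.mem_support_iff_of_finite.1 x.2⟩ hx)
  haveI : IsNoetherianRing (Localization.AtPrime p) := GrothLib.Depth.isNoetherian_atPrime p
  haveI : Nontrivial (LocalizedModule p.primeCompl M) := Module.mem_support_iff.1 hpsupp
  haveI : Module.Finite (Localization.AtPrime p) (LocalizedModule p.primeCompl M) :=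
    Module.Finite.of_isLocalizedModule p.primeCompl (LocalizedModule.mkLinearMap p.primeCompl M)
  have hd0 : LocCoh.depth (Localization.AtPrime p) (LocalizedModule p.primeCompl M) = 0 := by
    have := (GrothLib.Depth.depth_le_supportDim _ (LocalizedModule p.primeCompl M)).trans hp0
    exact le_antisymm (by exact_mod_cast this) zero_le
  have hqQ : (⟨q, inferInstance⟩ : PrimeSpectrum A) ∈ Module.support A (QuotSMulTop t M) := by
    rw [Module.support_quotSMulTop]
    exact ⟨Module.mem_support_mono (p := (⟨p, inferInstance⟩ : PrimeSpectrum A)) (show p ≤ q from hpq.le) hpsupp,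
      Set.singleton_subset_iff.2 htq⟩
  have hqmin : q ∈ (Module.annihilator A (QuotSMulTop t M)).minimalPrimes := by
    refine ⟨⟨inferInstance, Module.mem_support_iff_of_finite.1 hqQ⟩, fun r hr hrq => ?_⟩
    haveI := hr.1
    by_contra hne
    have hlt : r < q := lt_of_le_not_ge hrq hne
    have h1 := supportDim_localized_strict hlt (M := QuotSMulTop t M) (Module.mem_support_iff_of_finite.2 hr.2)
    have h2 := hS q
    rw [hd0] at hd
    have h3 : Module.supportDim (Localization.AtPrime q) (LocalizedModule q.primeCompl (QuotSMulTop t M)) ≤ 0 := by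
      have h4 : ((LocCoh.depth (Localization.AtPrime q) (LocalizedModule q.primeCompl (QuotSMulTop t M)) : ℕ∞) :
          WithBot ℕ∞) ≤ 0 := by exact_mod_cast hd
      rcases min_le_iff.1 (h2.trans h4) with h | h
      · exact absurd h (by
          have : ((1 : ℕ) : WithBot ℕ∞) ≤ (k : WithBot ℕ∞) := by exact_mod_cast hk
          exact fun h => absurd (this.trans h) (by decide))
      · exact h
    rw [supportDim_localized_eq_height r (Module.mem_support_iff_of_finite.2 hr.2)] at h1
    have h5 := h1.trans h3
    rw [show (1 : WithBot ℕ∞) = ((1 : ℕ∞) : WithBot ℕ∞) from rfl, ← WithBot.coe_add] at h5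
    exact absurd (WithBot.coe_le_coe.1 h5) (by simp)
  rw [← hdim, ← heq q hqmin]
  have h6 : ringKrullDim (A ⧸ q) + 1 ≤ ringKrullDim (A ⧸ p) := by
    obtain ⟨x, hxq, hxp⟩ := SetLike.exists_of_lt hpq
    refine ringKrullDim_succ_le_of_surjective (Ideal.Quotient.factor hpq.le)
      (Ideal.Quotient.factor_surjective hpq.le) (r := Ideal.Quotient.mk p x)
      (mem_nonZeroDivisors_of_ne_zero fun h => hxp (Ideal.Quotient.eq_zero_iff_mem.1 h)) ?_
    rw [Ideal.Quotient.factor_mk]
    exact Ideal.Quotient.eq_zero_iff_mem.2 hxq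
  exact h6

end Module

section Quotient

variable {A : Type u} [CommRing A] [IsNoetherianRing A]

/-- The localisation of `A ⧸ I` as a module. -/
noncomputable def locQuotEquiv (I p : Ideal A) [p.IsPrime] :
    LocalizedModule p.primeCompl (A ⧸ I) ≃ₗ[Localization.AtPrime p]
      (Localization.AtPrime p ⧸ I.map (algebraMap A (Localization.AtPrime p))) :=
  (LocalizedModule.equivTensorProduct p.primeCompl (A ⧸ I)).trans
    (Algebra.TensorProduct.quotIdealMapEquivTensorQuot (Localization.AtPrime p) I).symm.toLinearEquiv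

omit [IsNoetherianRing A] in
/-- The localisation of `A ⧸ I` as a ring. -/
theorem isLocalization_quot {I p : Ideal A} [p.IsPrime] (hI : I ≤ p) [(p.map (Ideal.Quotient.mk I)).IsPrime] :
    IsLocalization.AtPrime (Localization.AtPrime p ⧸ I.map (algebraMap A (Localization.AtPrime p)))
      (p.map (Ideal.Quotient.mk I)) := by
  have hcompl : Algebra.algebraMapSubmonoid (A ⧸ I) p.primeCompl = (p.map (Ideal.Quotient.mk I)).primeCompl := by
    ext z
    constructor
    · rintro ⟨y, hy, rfl⟩ h
      exact hy ((Ideal.mem_quotient_iff_mem hI).1 h)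
    · intro hz
      obtain ⟨y, rfl⟩ := Ideal.Quotient.mk_surjective z
      exact ⟨y, fun hy => hz (Ideal.mem_map_of_mem _ hy), rfl⟩
  have hloc : IsLocalization (Algebra.algebraMapSubmonoid (A ⧸ I) p.primeCompl)
      (Localization.AtPrime p ⧸ I.map (algebraMap A (Localization.AtPrime p))) := inferInstance
  rw [IsLocalization.AtPrime, ← hcompl]
  exact hloc

/-- The ring isomorphism between the two localisations of a quotient. -/
theorem nonempty_locQuot_ringEquiv {I p : Ideal A} [p.IsPrime] (hI : I ≤ p)
    [(p.map (Ideal.Quotient.mk I)).IsPrime] :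
    Nonempty (Localization.AtPrime (p.map (Ideal.Quotient.mk I)) ≃+*
      (Localization.AtPrime p ⧸ I.map (algebraMap A (Localization.AtPrime p)))) :=
  haveI := isLocalization_quot hI
  ⟨(IsLocalization.algEquiv (p.map (Ideal.Quotient.mk I)).primeCompl _ _).toRingEquiv⟩

/-- `(S_k)` for the ring `A ⧸ I` gives `(S_k)` for the module `A ⧸ I`. -/
theorem hasSk_quotient_module {k : ℕ} (I : Ideal A) (h : LocCoh.HasSk k (A ⧸ I) (A ⧸ I)) :
    LocCoh.HasSk k A (A ⧸ I) := by
  intro p _
  by_cases hI : I ≤ p
  · haveI := Ideal.isPrime_map_quotientMk_of_isPrime hI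
    haveI : (p.map (Ideal.Quotient.mk I)).IsPrime := Ideal.isPrime_map_quotientMk_of_isPrime hI
    haveI := GrothLib.Depth.isNoetherian_atPrime p
    obtain ⟨e⟩ := nonempty_locQuot_ringEquiv hI
    set Q := Localization.AtPrime p ⧸ I.map (algebraMap A (Localization.AtPrime p))
    haveI : IsNoetherianRing (Localization.AtPrime (p.map (Ideal.Quotient.mk I))) :=
      GrothLib.Depth.isNoetherian_atPrime _
    haveI : IsLocalRing Q := e.isLocalRing
    have hb : GrothLib.SyntLoc.SkBound k Q :=
      GrothLib.SyntLoc.skBound_congr e ((GrothLib.SyntLoc.hasSk_iff_skBound _).1 h _)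
    rw [Module.supportDim_eq_of_equiv (locQuotEquiv I p),
      show LocCoh.depth (Localization.AtPrime p) (LocalizedModule p.primeCompl (A ⧸ I)) = _ from
        GrothLib.Depth.idealDepth_eq_of_equiv _ (locQuotEquiv I p)]
    rw [Module.supportDim_quotient_eq_ringKrullDim,
      show LocCoh.idealDepth (maximalIdeal (Localization.AtPrime p)) Q = LocCoh.depth Q Q from
        GrothLib.Faltings.depth_eq_of_surjective Ideal.Quotient.mk_surjective Q]
    exact hb
  · rw [supportDim_localized_of_notMem p fun hp => hI ?_]
    · exact (min_le_right _ _).trans bot_le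
    · have := Module.mem_support_iff_of_finite.1 hp
      rwa [Ideal.annihilator_quotient] at this

end Quotient

end GrothLib.SkLift5
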